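import Groth.Agent.FreeGen.Functor
import Groth.Agent.S3041
import Groth.Agent.MorLib.IdealFG2
import Groth.Agent.QCoh.LocFree

/-! Representability of freeness at the generic points of the fibres. -/

set_option autoImplicit false
set_option backward.isDefEq.respectTransparency false
set_option backward.isDefEq.respectTransparency.types false
set_option linter.style.haveILetI false

universe u

open CategoryTheory CategoryTheory.Limits AlgebraicGeometry TopologicalSpace Opposite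

namespace Groth.Agent.FreeGen

section General

variable {X Y : Scheme.{u}}

theorem isPullback_comp_mono {C : Type*} [Category C] {P A B D E : C} {fst : P ⟶ A} {snd : P ⟶ B} {c : A ⟶ D}
    {d : B ⟶ D} (h : IsPullback fst snd c d) (i : D ⟶ E) [Mono i] : IsPullback fst snd (c ≫ i) (d ≫ i) := by
  have h2 : IsPullback d (𝟙 B) i (d ≫ i) := IsPullback.of_vert_isIso_mono ⟨(Category.id_comp _).symm⟩
  simpa using h.paste_vert h2

theorem vanish_iff_comap_eq_bot (n : X ⟶ Y) [IsOpenImmersion n] (I : Y.IdealSheafData) :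
    Vanish I n.opensRange ↔ I.comap n = ⊥ := by
  constructor
  · intro h
    refine Scheme.IdealSheafData.ext (funext fun U => ?_)
    rw [Scheme.IdealSheafData.ideal_comap_of_isOpenImmersion, h.ideal_eq_bot (n.image_le_opensRange _),
      Scheme.IdealSheafData.ideal_bot, Pi.bot_apply, ← RingHom.ker_eq_comap_bot]
    exact (RingHom.injective_iff_ker_eq_bot _).1 (ConcreteCategory.bijective_of_isIso (n.appIso U.1).inv).1
  · intro h y hy
    obtain ⟨x, rfl⟩ := hy
    obtain ⟨_, ⟨V, hV, rfl⟩, hxV, -⟩ := X.isBasis_affineOpens.exists_subset_of_mem_open (Set.mem_univ x) isOpen_univ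
    refine ⟨⟨n ''ᵁ V, hV.image_of_isOpenImmersion n⟩, ⟨x, hxV, rfl⟩, ?_⟩
    have h1 := Scheme.IdealSheafData.ideal_comap_of_isOpenImmersion I n ⟨V, hV⟩
    rw [h, Scheme.IdealSheafData.ideal_bot, Pi.bot_apply] at h1
    refine eq_bot_iff.2 fun a ha => ?_
    obtain ⟨b, rfl⟩ := (ConcreteCategory.bijective_of_isIso (n.appIso V).inv).2 a
    have hb : b ∈ (⊥ : Ideal Γ(X, V)) := h1 ▸ (Ideal.mem_comap.2 ha)
    rw [Ideal.mem_bot] at hb ⊢
    rw [hb, map_zero]

theorem isIso_snd_subschemeι_iff (I : Y.IdealSheafData) (a : X ⟶ Y) :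
    IsIso (pullback.snd I.subschemeι a) ↔ I.comap a = ⊥ := by
  rw [← pullbackSymmetry_hom_comp_fst I.subschemeι a, isIso_comp_left_iff,
    IsClosedImmersion.isIso_iff_ker_eq_bot, Scheme.IdealSheafData.ker_fst_of_isClosedImmersion,
    Scheme.IdealSheafData.ker_subschemeι]

end General

variable {X : Scheme.{u}}

/-- The ideal sheaf below the rank `p`. -/
noncomputable def low (M : X.Modules) (p : ℕ) : X.IdealSheafData :=
  if p = 0 then ⊥ else Fitt.sheafIdeal M (p - 1)

theorem vanish_bot (O : X.Opens) : Vanish (⊥ : X.IdealSheafData) O :=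
  vanish_of_affine fun _ _ => by rw [Scheme.IdealSheafData.ideal_bot, Pi.bot_apply]

theorem vanish_low_iff {M : X.Modules} (hM : Coh.IsQCoh M) (hft : CohB1.IsFT M) (p : ℕ) (O : X.Opens) :
    Vanish (low M p) O ↔ ∀ k < p, Vanish (Fitt.sheafIdeal M k) O := by
  unfold low
  split_ifs with hp
  · exact ⟨fun _ k hk => by omega, fun _ => vanish_bot O⟩
  refine ⟨fun h k hk => vanish_of_affine fun W hW => ?_, fun h => h _ (by omega)⟩
  haveI := QCoh.finite_of_isFT hM hft W.2
  have h1 := h.ideal_eq_bot hW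
  rw [FittX.sheafIdeal_ideal hM hft] at h1 ⊢
  exact le_bot_iff.1 (h1 ▸ FittX.ideal_mono (show k ≤ p - 1 by omega))

theorem comap_low {X' : Scheme.{u}} (a : X' ⟶ X) {M : X.Modules} (hM : Coh.IsQCoh M) (hft : CohB1.IsFT M) (p : ℕ) :
    (low M p).comap a = low ((Scheme.Modules.pullback a).obj M) p := by
  unfold low
  split_ifs
  · exact Scheme.IdealSheafData.comap_bot a
  · exact FittX.sheafIdeal_comap a hM hft _

theorem isFG_low {M : X.Modules} (hfp : CohB1.IsFP M) (p : ℕ) : MorLib.IdealFG.IsFG (low M p) := by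
  unfold low
  split_ifs
  · exact MorLib.IdealFG.isFG_bot
  · exact FittX.isFiniteTypeIdeal hfp _

section Fibres

variable {S : Scheme.{u}} (f : X ⟶ S) (U : X.Opens) (S₀ : S.Opens) (e : U ≤ f ⁻¹ᵁ S₀)

theorem geometricallyIrreducible_resLE [GeometricallyIrreducible f] (hS : ∀ s ∈ S₀, ∃ x ∈ U, f x = s) :
    GeometricallyIrreducible (f.resLE S₀ U e) := by
  refine ⟨fun K _ y Z fst snd h => ?_⟩
  let Q := pullback f (y ≫ S₀.ι)
  have hw : (fst ≫ U.ι) ≫ f = snd ≫ y ≫ S₀.ι := by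
    rw [Category.assoc, ← f.resLE_comp_ι e, reassoc_of% h.w]
  let m : Z ⟶ Q := pullback.lift (fst ≫ U.ι) snd hw
  have hm : IsPullback fst m U.ι (pullback.fst f (y ≫ S₀.ι)) := by
    refine IsPullback.of_bot ?_ (pullback.lift_fst _ _ _).symm (IsPullback.of_hasPullback f (y ≫ S₀.ι)).flip.flip
    rw [pullback.lift_snd, ← f.resLE_comp_ι e]
    exact isPullback_comp_mono h S₀.ι
  haveI : IsOpenImmersion m := MorphismProperty.of_isPullback hm inferInstance
  haveI : IrreducibleSpace Q :=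
    GeometricallyIrreducible.geometrically_irreducibleSpace _ _ _ (IsPullback.of_hasPullback _ _)
  haveI : Nonempty Z := by
    obtain ⟨x, hxU, hx⟩ := hS (S₀.ι (y default)) (y default).2
    have hfx : f.resLE S₀ U e ⟨x, hxU⟩ = y default := S₀.ι.injective (by
      rw [← Scheme.Hom.comp_apply, f.resLE_comp_ι e]; exact hx)
    obtain ⟨z, -, -⟩ := Scheme.exists_preimage_of_isPullback h ⟨x, hxU⟩ default hfx
    exact ⟨z⟩
  exact m.isOpenEmbedding.irreducibleSpace

end Fibres

section Main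

variable {S : Scheme.{u}} (f : X ⟶ S) [Smooth f] [GeometricallyIrreducible f] {F : X.Modules}
  (hM : Coh.IsQCoh F) (hft : CohB1.IsFT F) (p : ℕ)

/-- The open image of the locus in the base. -/
noncomputable def baseOpen : S.Opens :=
  ⟨f.base '' (locus F p).1, f.isOpenMap _ (locus F p).2⟩

theorem locus_le (F : X.Modules) : locus F p ≤ f ⁻¹ᵁ baseOpen f p (F := F) := fun x hx => ⟨x, hx, rfl⟩

include hM hft in
theorem mem_baseOpen {T : Over S} (h : Cond f p F T) (t : T.left) : T.hom t ∈ baseOpen f p (F := F) := by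
  obtain ⟨x, hx, rfl⟩ := ((cond_iff f hM hft p T).1 h).1 t
  rw [locus_pullback _ hM hft] at hx
  exact ⟨pullback.fst f T.hom x, hx, congr($(pullback.condition (f := f) (g := T.hom)) x)⟩

include hM hft in
theorem cond_iff_comap {T : Over S} (g : T.left ⟶ (baseOpen f p (F := F)).toScheme)
    (hg : g ≫ (baseOpen f p (F := F)).ι = T.hom) :
    Cond f p F T ↔ ((low F p).comap (locus F p).ι).comap
      (pullback.fst (f.resLE (baseOpen f p (F := F)) (locus F p) (locus_le f p F)) g) = ⊥ := by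
  let U := locus F p
  let S₀ := baseOpen f p (F := F)
  let f₀ := f.resLE S₀ U (locus_le f p F)
  let P := pullback f₀ g
  have hw : (pullback.fst f₀ g ≫ U.ι) ≫ f = pullback.snd f₀ g ≫ T.hom := by
    rw [Category.assoc, ← f.resLE_comp_ι (locus_le f p F), pullback.condition_assoc, hg]
  let n : P ⟶ PicF.XT f T := pullback.lift (pullback.fst f₀ g ≫ U.ι) (pullback.snd f₀ g) hw
  have hn : IsPullback (pullback.fst f₀ g) n U.ι (pullback.fst f T.hom) := by
    refine IsPullback.of_bot ?_ (pullback.lift_fst _ _ _).symm (IsPullback.of_hasPullback f T.hom)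
    rw [pullback.lift_snd, ← f.resLE_comp_ι (locus_le f p F), ← hg]
    exact isPullback_comp_mono (IsPullback.of_hasPullback f₀ g) S₀.ι
  haveI : IsOpenImmersion n := MorphismProperty.of_isPullback hn inferInstance
  have hrange : n.opensRange = locus (FGA.ET f F T) p := by
    rw [locus_pullback _ hM hft]
    ext x
    constructor
    · rintro ⟨z, rfl⟩
      show pullback.fst f T.hom (n z) ∈ U
      rw [← Scheme.Hom.comp_apply, ← hn.w]
      exact (pullback.fst f₀ g z).2
    · intro hx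
      obtain ⟨z, -, hz⟩ := Scheme.exists_preimage_of_isPullback hn ⟨pullback.fst f T.hom x, hx⟩ x rfl
      exact ⟨z, hz⟩
  have hsurj : ∀ t : T.left, ∃ x ∈ locus (FGA.ET f F T) p, PicF.XTproj f T x = t := fun t => by
    obtain ⟨x, hxU, hx⟩ := (g t).2
    have hfx : f₀ ⟨x, hxU⟩ = g t := S₀.ι.injective (by
      rw [← Scheme.Hom.comp_apply, f.resLE_comp_ι]; exact hx)
    obtain ⟨z, -, hz⟩ := Scheme.exists_preimage_of_isPullback (IsPullback.of_hasPullback f₀ g) ⟨x, hxU⟩ t hfx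
    refine ⟨n z, hrange ▸ ⟨z, rfl⟩, ?_⟩
    show (n ≫ pullback.snd f T.hom) z = t
    rw [pullback.lift_snd]
    exact hz
  rw [cond_iff f hM hft p T, ← Scheme.IdealSheafData.comap_comp, hn.w, Scheme.IdealSheafData.comap_comp,
    ← vanish_iff_comap_eq_bot, comap_low _ hM hft,
    vanish_low_iff (QCoh.isQCoh_pullback _ hM) (FittX.isFT_pullback _ hM hft), hrange]
  exact ⟨fun h => h.2, fun h => ⟨hsurj, h⟩⟩

theorem isCompact_locus_inter (hM : Coh.IsQCoh F) (hfp : CohB1.IsFP F) {W : X.Opens} (hW : IsAffineOpen W) :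
    IsCompact ((locus F p : Set X) ∩ W) := by
  have hft := QCoh.isFT_of_isFP hfp
  obtain ⟨g, hg⟩ := FittX.isFiniteTypeIdeal hfp p ⟨W, hW⟩
  have h : ((locus F p : Set X) ∩ W) = ⋃ a ∈ g, (X.basicOpen a : Set X) := by
    ext x
    simp only [Set.mem_inter_iff, Set.mem_iUnion]
    constructor
    · rintro ⟨hxl, hxW⟩
      by_contra hne
      simp only [not_exists] at hne
      refine mem_locus_iff.1 hxl ((Scheme.IdealSheafData.mem_support_iff_of_mem (U := ⟨W, hW⟩) hxW).2 ?_)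
      rw [← hg, Scheme.zeroLocus_span]
      exact (Scheme.mem_zeroLocus_iff X _ x).2 fun a ha => hne a ha
    · rintro ⟨a, ha, hxa⟩
      have hxW : x ∈ W := X.basicOpen_le a hxa
      refine ⟨mem_locus_iff.2 fun hs => ?_, hxW⟩
      exact (Scheme.mem_zeroLocus_iff X _ x).1
        ((Scheme.IdealSheafData.mem_support_iff_of_mem (U := ⟨W, hW⟩) hxW).1 hs) a
        (hg ▸ Submodule.subset_span ha) hxa
  rw [h]
  exact g.finite_toSet.isCompact_biUnion fun a _ => (hW.basicOpen a).isCompact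

theorem isQuasiCompact_baseOpen (hM : Coh.IsQCoh F) (hfp : CohB1.IsFP F) :
    QuasiCompact (baseOpen f p (F := F)).ι := by
  rw [quasiCompact_iff_forall_isAffineOpen]
  intro V hV
  rw [(baseOpen f p (F := F)).ι.isOpenEmbedding.isCompact_iff]
  let ι := {W : X.affineOpens // W.1 ≤ f ⁻¹ᵁ V}
  let O : ι → S.Opens := fun W => ⟨f.base '' W.1.1.1, f.isOpenMap _ W.1.1.2⟩
  obtain ⟨s, hs⟩ : ∃ s : Finset ι, (V : Set S) ⊆ ⋃ W ∈ s, (O W : Set S) := by
    refine hV.isCompact.elim_finite_subcover _ (fun W => (O W).2) fun t ht => ?_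
    obtain ⟨x, rfl⟩ := f.surjective t
    obtain ⟨_, ⟨W, hW, rfl⟩, hxW, hle⟩ :=
      X.isBasis_affineOpens.exists_subset_of_mem_open (show x ∈ f ⁻¹ᵁ V from ht) (f ⁻¹ᵁ V).2
    exact Set.mem_iUnion.2 ⟨⟨⟨W, hW⟩, hle⟩, x, hxW, rfl⟩
  have h : (baseOpen f p (F := F)).ι '' ((baseOpen f p (F := F)).ι ⁻¹ᵁ V : Set _) =
      f.base '' (⋃ W ∈ s, ((locus F p : Set X) ∩ W.1.1)) := by
    ext t
    constructor
    · rintro ⟨⟨t, x, hx, hxt⟩, htV, rfl⟩
      obtain ⟨W, hW, w, hwW, hwt⟩ := Set.mem_iUnion₂.1 (hs htV)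
      obtain ⟨v, rfl⟩ : x ∈ Set.range (f.fiberι t) := by rw [Scheme.Hom.range_fiberι]; exact hxt
      obtain ⟨v', rfl⟩ : w ∈ Set.range (f.fiberι t) := by rw [Scheme.Hom.range_fiberι]; exact hwt
      obtain ⟨z, hz1, hz2⟩ := nonempty_preirreducible_inter (f.fiberι t ⁻¹ᵁ locus F p).2
        (f.fiberι t ⁻¹ᵁ W.1.1).2 ⟨v, hx⟩ ⟨v', hwW⟩
      exact ⟨f.fiberι t z, Set.mem_iUnion₂.2 ⟨W, hW, hz1, hz2⟩,
        (f.range_fiberι t).le ⟨z, rfl⟩⟩
    · rintro ⟨x, hx, rfl⟩
      obtain ⟨W, -, hxl, hxW⟩ := Set.mem_iUnion₂.1 hx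
      exact ⟨⟨f x, x, hxl, rfl⟩, W.2 hxW, rfl⟩
  rw [h]
  exact (s.finite_toSet.isCompact_biUnion fun W _ => isCompact_locus_inter p hM hfp W.1.2).image f.continuous

include hM hft in
theorem exists_repr :
    ∃ Z : Over S, IsImmersion Z.hom ∧
      Nonempty ((FlatFun.genPSp S (Cond f p F)).RepresentableBy Z) ∧
      (CohB1.IsFP F → LocallyOfFinitePresentation Z.hom ∧ QuasiCompact Z.hom ∧ QuasiSeparated Z.hom) := by
  let U := locus F p
  let S₀ := baseOpen f p (F := F)
  let f₀ := f.resLE S₀ U (locus_le f p F)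
  haveI : GeometricallyIrreducible f₀ :=
    geometricallyIrreducible_resLE f U S₀ _ fun s hs => by obtain ⟨x, hx, rfl⟩ := hs; exact ⟨x, hx, rfl⟩
  haveI : Smooth f₀ := by
    haveI : Smooth (f₀ ≫ S₀.ι) := by rw [f.resLE_comp_ι]; infer_instance
    infer_instance
  let J := (low F p).comap U.ι
  obtain ⟨W, t, ht, hW, hlfp⟩ := S3041.result S₀.toScheme U.toScheme J.subscheme f₀ J.subschemeι
  let Z : Over S := Over.mk (t ≫ S₀.ι)
  haveI : Mono Z.hom := inferInstanceAs (Mono (t ≫ S₀.ι))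
  have key : ∀ T : Over S, Cond f p F T ↔ Nonempty (T ⟶ Z) := fun T => by
    constructor
    · intro h
      let g : T.left ⟶ S₀.toScheme := IsOpenImmersion.lift S₀.ι T.hom (by
        rintro _ ⟨x, rfl⟩
        rw [Scheme.Opens.range_ι]
        exact mem_baseOpen f hM hft p h x)
      have hg : g ≫ S₀.ι = T.hom := IsOpenImmersion.lift_fac _ _ _
      obtain ⟨g', hg'⟩ := (hW _ g).2 ((isIso_snd_subschemeι_iff J _).2 ((cond_iff_comap f hM hft p g hg).1 h))
      exact ⟨Over.homMk g' (by show g' ≫ t ≫ S₀.ι = T.hom; rw [reassoc_of% hg', hg])⟩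
    · rintro ⟨φ⟩
      exact (cond_iff_comap f hM hft p (φ.left ≫ t) ((Category.assoc _ _ _).trans (Over.w φ))).2
        ((isIso_snd_subschemeι_iff J _).1 ((hW _ _).1 ⟨φ.left, rfl⟩))
  haveI : ∀ T : Over S, Subsingleton (T ⟶ Z) := fun T => ⟨fun a b => Over.OverMorphism.ext
    ((cancel_mono Z.hom).1 ((Over.w a).trans (Over.w b).symm))⟩
  refine ⟨Z, inferInstanceAs (IsImmersion (t ≫ S₀.ι)), ⟨?_⟩, fun hfp => ?_⟩
  · refine
      { homEquiv := fun {T} => ?_
        homEquiv_comp := fun _ _ => @Subsingleton.elim _ (FlatFun.genPSp_subsingleton _ _ _) _ _ }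
    haveI := FlatFun.genPSp_subsingleton S (Cond f p F) (op T)
    exact equivOfSubsingletonOfSubsingleton (fun φ => (FlatFun.genPSp_nonempty_of _ ((key T).2 ⟨φ⟩)).some)
      fun x => ((key T).1 ((FlatFun.genPSp_nonempty_iff_of_stable _ (cond_stable f hM hft p) T).1 ⟨x⟩)).some
  · haveI := hlfp (MorLib.IdealFG.lfp_subschemeι (MorLib.IdealFG.isFG_comap (isFG_low hfp p) U.ι))
    haveI := isQuasiCompact_baseOpen f p hM hfp
    exact ⟨inferInstanceAs (LocallyOfFinitePresentation (t ≫ S₀.ι)), inferInstanceAs (QuasiCompact (t ≫ S₀.ι)),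
      inferInstanceAs (QuasiSeparated (t ≫ S₀.ι))⟩

end Main

end Groth.Agent.FreeGen
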