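import Groth.Agent.FreeGen.FlatIff
import Groth.Agent.LimModLib.FP

/-! Flatness in the top dimension is locally freeness at the generic points. -/

set_option autoImplicit false
set_option backward.isDefEq.respectTransparency false
set_option backward.isDefEq.respectTransparency.types false
set_option linter.style.haveILetI false

universe u

open CategoryTheory CategoryTheory.Limits AlgebraicGeometry TopologicalSpace Opposite

namespace Groth.Agent.FreeGen

variable {X S : Scheme.{u}} [IsAffine X] (f : X ⟶ S) (d : ℕ) [SmoothOfRelativeDimension d f]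
  [GeometricallyIrreducible f] {F : X.Modules} (hM : Coh.IsQCoh F) (hfp : CohB1.IsFP F)

include hM hfp in
theorem flat_top_iff_locally_free :
    ∃ c : ℕ, ∀ T : Over S,
      (FlatFun.DimFibresLT d (PicF.XTproj f T)
        {x | ¬ FlatMod.IsFlatOverAt (PicF.XTproj f T) (FGA.ET f F T) x}) ↔
      ∀ t : T.left, ∃ (V : T.left.Opens) (p : ℕ), t ∈ V ∧ p ≤ c ∧
        FlatFun.FreeAtGenericPts (PicF.XTproj f (Over.mk (V.ι ≫ T.hom)))
          (FGA.ET f F (Over.mk (V.ι ≫ T.hom))) p := by
  haveI : Smooth f := SmoothOfRelativeDimension.smooth d f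
  have hft := QCoh.isFT_of_isFP hfp
  haveI := QCoh.finite_of_isFT hM hft (isAffineOpen_top X)
  obtain ⟨c, gens, hgens⟩ := Module.Finite.exists_fin (R := Γ(X, ⊤)) (M := Γ(F, ⊤))
  have htop : ∀ x : X, x ∈ locus F c := fun x => mem_locus_iff.2 fun hs => by
    rw [FittX.mem_support_sheafIdeal hM hft c (isAffineOpen_top X) (show x ∈ (⊤ : X.Opens) from trivial),
      FittX.ideal_eq_top_of_gen gens hgens le_rfl] at hs
    exact ((isAffineOpen_top X).primeIdealOf ⟨x, trivial⟩).isPrime.ne_top (top_le_iff.1 hs)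
  refine ⟨c, fun T => ?_⟩
  let q := PicF.XTproj f T
  let M := FGA.ET f F T
  haveI := smoothOfRelativeDimension_isStableUnderBaseChange (n := d)
  haveI : SmoothOfRelativeDimension d q := MorphismProperty.pullback_snd f T.hom ‹SmoothOfRelativeDimension d f›
  haveI : Smooth q := SmoothOfRelativeDimension.smooth d q
  haveI : GeometricallyIrreducible q := MorphismProperty.pullback_snd f T.hom inferInstance
  have hMq : Coh.IsQCoh M := QCoh.isQCoh_pullback _ hM
  have hMfp : CohB1.IsFP M := LimModLib.isFP_pullback _ hM hfp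
  have hMft : CohB1.IsFT M := QCoh.isFT_of_isFP hMfp
  have hdim : FlatFun.DimFibresLT d q {x | ¬ FlatMod.IsFlatOverAt q M x} ↔
      ∀ x, FlatFun.IsGenericPtOfFibre q x → FlatMod.IsFlatOverAt q M x := by
    refine forall_congr' fun x => ?_
    show (¬ _ → VarDim.rdeg q x < (d : Cardinal)) ↔ _
    rw [← FibDim.rd_eq_rdeg, Nat.cast_lt, rd_lt_iff_not_generic q d x, not_imp_not]
  rw [hdim]
  constructor
  · intro h t
    obtain ⟨η, hη, -, hgen⟩ := exists_generic_of_open q (O := ⊤) t (by
      obtain ⟨x, hx⟩ := q.surjective t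
      exact ⟨x, trivial, hx⟩)
    obtain ⟨U, n, hηU, hU⟩ := free_near_of_flat q hMfp (isField_quot_of_generic q hgen) (h η hgen)
    have hfree : ∀ x ∈ U, FlatFun.IsFreeOfRankNear M n x := fun x hx => ⟨U, hx, hU⟩
    have hUl : U ≤ locus M n := fun x hx => (of_isFreeOfRankNear hMq hMft (hfree x hx)).1
    have hnc : n ≤ c := by
      by_contra hlt
      obtain ⟨W, hηW, hW⟩ := (of_isFreeOfRankNear hMq hMft (hfree η hηU)).2 c (by omega)
      have h1 : η ∈ locus M c := by
        rw [locus_pullback _ hM hft]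
        exact htop _
      refine mem_locus_iff.1 h1 ((Scheme.IdealSheafData.mem_support_iff_of_mem hηW).2 ?_)
      rw [hW]
      exact (Scheme.mem_zeroLocus_iff _ _ η).2 fun a ha => by
        rw [show a = 0 from ha, Scheme.basicOpen_zero]
        exact id
    let V : T.left.Opens := ⟨q.base '' U.1, q.isOpenMap _ U.2⟩
    refine ⟨V, n, ⟨η, hηU, hη⟩, hnc, ?_⟩
    let TV : Over S := Over.mk (V.ι ≫ T.hom)
    let g : TV ⟶ T := Over.homMk V.ι rfl
    let j := PicF.XTmap f g
    haveI : GeometricallyIrreducible (PicF.XTproj f TV) := MorphismProperty.pullback_snd f TV.hom inferInstance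
    intro t'
    obtain ⟨x, hx, hxt⟩ := t'.2
    obtain ⟨w, hw, hwt⟩ := Scheme.exists_preimage_of_isPullback (isPullback_XTmap f g) x t' hxt
    obtain ⟨η', hη', hη'U, hgen'⟩ := exists_generic_of_open (PicF.XTproj f TV) (O := j ⁻¹ᵁ U) t'
      ⟨w, show j w ∈ U by rwa [hw], hwt⟩
    refine ⟨η', hη', hgen', isFreeOfRankNear_of (O := j ⁻¹ᵁ U) (QCoh.isQCoh_pullback _ hM)
      (FittX.isFT_pullback _ hM hft) ?_ (fun k hk => ?_) hη'U⟩
    · rw [locus_ET f hM hft n g]
      exact fun y hy => hUl hy
    · rw [← sheafIdeal_ET f hM hft g]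
      exact Vanish.pullback j hMq hMft fun y hy => (of_isFreeOfRankNear hMq hMft (hfree y hy)).2 k hk
  · intro h x hgen
    obtain ⟨V, p, hxV, -, hfree⟩ := h (q x)
    let TV : Over S := Over.mk (V.ι ≫ T.hom)
    let g : TV ⟶ T := Over.homMk V.ι rfl
    let j := PicF.XTmap f g
    let qV := PicF.XTproj f TV
    have hj := isPullback_XTmap f g
    haveI : IsOpenImmersion g.left := inferInstanceAs (IsOpenImmersion V.ι)
    haveI : Flat j := MorphismProperty.of_isPullback hj.flip (inferInstance : Flat g.left)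
    haveI : Flat qV := MorphismProperty.pullback_snd f TV.hom inferInstance
    obtain ⟨w, hwt, hwgen, hwfree⟩ := hfree ⟨q x, hxV⟩
    have hjw : ∀ v, q (j v) = g.left (qV v) := fun v => congr($(hj.w) v)
    have e : j w = x := by
      obtain ⟨v, hv, hvt⟩ := Scheme.exists_preimage_of_isPullback hj x (⟨q x, hxV⟩ : V) rfl
      refine (Specializes.antisymm ?_ (hgen _ ?_)).eq
      · rw [← hv]
        exact (hwgen v (hvt.trans hwt.symm)).map j.continuous
      · rw [hjw, hwt]
        rfl
    have h1 : FlatMod.IsFlatOverAt qV (FGA.ET f F TV) w :=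
      flatAt_of_free_near qV (QCoh.isQCoh_pullback _ hM) (FittX.isFT_pullback _ hM hft) hwfree
    have h2 := RelFlat.isFlatOverAt_comp qV g.left (FGA.ET f F TV) w (Flat.stalkMap g.left _) h1
    have h3 := GrFlat5.isFlatOverAt_of_iso _ (FGA.ETiso f F g).symm w h2
    rw [← e]
    refine (S9350.flatOverAt_pullback_iff j q M w (Flat.stalkMap j w)).2 ?_
    rw [show j ≫ q = qV ≫ g.left from hj.w]
    exact h3

end Groth.Agent.FreeGen
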