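import Groth.Agent.FittX.Sheaf
import Groth.Agent.S4871
import Groth.Agent.GrpSchLib.SmoothReduced
import Groth.Prelude.Def_FlatFun

/-! Freeness at the generic points of the fibres, in terms of Fitting ideals. -/

set_option autoImplicit false
set_option backward.isDefEq.respectTransparency false
set_option backward.isDefEq.respectTransparency.types false
set_option linter.style.haveILetI false

universe u

open CategoryTheory CategoryTheory.Limits AlgebraicGeometry TopologicalSpace Opposite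

namespace Groth.Agent.FreeGen

variable {X T : Scheme.{u}}

/-- An ideal sheaf vanishes near every point of an open. -/
def Vanish (I : X.IdealSheafData) (O : X.Opens) : Prop :=
  ∀ x ∈ O, ∃ W : X.affineOpens, x ∈ W.1 ∧ I.ideal W = ⊥

theorem germ_eq_zero (I : X.IdealSheafData) {W W' : X.affineOpens} (a : Γ(X, W.1)) (ha : a ∈ I.ideal W) {x : X}
    (hx : x ∈ W.1) (hx' : x ∈ W'.1) (h : I.ideal W' = ⊥) : X.presheaf.germ W.1 x hx a = 0 := by
  obtain ⟨f, g, hfg, hxf⟩ := exists_basicOpen_le_affine_inter W.2 W'.2 x ⟨hx, hx'⟩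
  let D := X.affineBasicOpen f
  have h1 : I.ideal D = ⊥ := by
    rw [show D = X.affineBasicOpen g from Subtype.ext hfg, ← I.map_ideal_basicOpen W' g, h, Ideal.map_bot]
  have h2 : X.presheaf.map (homOfLE (X.basicOpen_le f)).op a = 0 := by
    rw [← Ideal.mem_bot, ← h1, ← I.map_ideal_basicOpen W f]
    exact Ideal.mem_map_of_mem _ ha
  rw [← X.presheaf.germ_res_apply (homOfLE (X.basicOpen_le f)) x hxf a, h2, map_zero]

theorem Vanish.ideal_eq_bot {I : X.IdealSheafData} {O : X.Opens} (h : Vanish I O) {W : X.affineOpens}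
    (hW : W.1 ≤ O) : I.ideal W = ⊥ := by
  refine eq_bot_iff.2 fun a ha => ?_
  show a = 0
  refine TopCat.Presheaf.section_ext X.sheaf W.1 a 0 fun x hx => ?_
  obtain ⟨W', hx', hW'⟩ := h x (hW hx)
  exact (germ_eq_zero I a ha hx hx' hW').trans (map_zero _).symm

theorem vanish_of_affine {I : X.IdealSheafData} {O : X.Opens}
    (h : ∀ W : X.affineOpens, W.1 ≤ O → I.ideal W = ⊥) : Vanish I O := fun x hx => by
  obtain ⟨_, ⟨W, hW, rfl⟩, hxW, hle⟩ := X.isBasis_affineOpens.exists_subset_of_mem_open (show x ∈ O from hx) O.2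
  exact ⟨⟨W, hW⟩, hxW, h _ hle⟩

variable {M : X.Modules} {p : ℕ}

/-- The open set where the `p`-th Fitting ideal is the unit ideal. -/
noncomputable def locus (M : X.Modules) (p : ℕ) : X.Opens :=
  (Fitt.sheafIdeal M p).support.compl

theorem mem_locus_iff {x : X} : x ∈ locus M p ↔ x ∉ (Fitt.sheafIdeal M p).support := Iff.rfl

theorem fitt_eq_top (hM : Coh.IsQCoh M) (hft : CohB1.IsFT M) {W : X.Opens} (hW : IsAffineOpen W)
    (hle : W ≤ locus M p) : Fitt.ideal Γ(X, W) Γ(M, W) p = ⊤ := by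
  by_contra hne
  obtain ⟨m, hm, hle'⟩ := Ideal.exists_le_maximal _ hne
  obtain ⟨y, hy, hq⟩ := QCoh.exists_point hW ⟨m, hm.isPrime⟩
  refine mem_locus_iff.1 (hle hy) ((FittX.mem_support_sheafIdeal hM hft p hW hy).2 ?_)
  rw [hq]
  exact hle'

theorem of_isFreeOfRankNear (hM : Coh.IsQCoh M) (hft : CohB1.IsFT M) {x : X}
    (h : FlatFun.IsFreeOfRankNear M p x) :
    x ∈ locus M p ∧ ∀ k < p, ∃ W : X.affineOpens, x ∈ W.1 ∧ (Fitt.sheafIdeal M k).ideal W = ⊥ := by
  obtain ⟨U, hxU, ⟨e⟩⟩ := h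
  obtain ⟨_, ⟨W, hW : IsAffineOpen W, rfl⟩, hxW, hle⟩ :=
    X.isBasis_affineOpens.exists_subset_of_mem_open (show x ∈ U from hxU) U.2
  haveI := QCoh.finite_of_isFT hM hft hW
  obtain ⟨l⟩ := QCoh.free_sections hW hle e
  let b : Module.Basis (Fin p) Γ(X, W) Γ(M, W) :=
    (Module.Basis.ofRepr l).reindex Equiv.ulift
  refine ⟨mem_locus_iff.2 fun hsup => ?_, fun k hk => ⟨⟨W, hW⟩, hxW, ?_⟩⟩
  · rw [FittX.mem_support_sheafIdeal hM hft p hW hxW, FittX.ideal_eq_top_of_gen b b.span_eq le_rfl] at hsup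
    exact (hW.primeIdealOf ⟨x, hxW⟩).isPrime.ne_top (top_le_iff.1 hsup)
  · rw [FittX.sheafIdeal_ideal hM hft]
    exact FittX.ideal_eq_bot_of_free _ k p b hk

theorem isFreeOfRankNear_of (hM : Coh.IsQCoh M) (hft : CohB1.IsFT M) {O : X.Opens} (hO : O ≤ locus M p)
    (hv : ∀ k < p, Vanish (Fitt.sheafIdeal M k) O) {x : X} (hx : x ∈ O) : FlatFun.IsFreeOfRankNear M p x := by
  obtain ⟨_, ⟨W, hW : IsAffineOpen W, rfl⟩, hxW, hle⟩ :=
    X.isBasis_affineOpens.exists_subset_of_mem_open (show x ∈ O from hx) O.2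
  haveI := QCoh.finite_of_isFT hM hft hW
  have hbot : ∀ (W' : X.affineOpens), W'.1 ≤ O → ∀ k < p, Fitt.ideal Γ(X, W'.1) Γ(M, W'.1) k = ⊥ := fun W' hW' k hk => by
    rw [← FittX.sheafIdeal_ideal hM hft]
    exact (hv k hk).ideal_eq_bot hW'
  have htop : ∀ (W' : X.affineOpens), W'.1 ≤ O → ∀ k, p ≤ k → Fitt.ideal Γ(X, W'.1) Γ(M, W'.1) k = ⊤ := fun W' hW' k hk => by
    haveI := QCoh.finite_of_isFT hM hft W'.2
    exact top_le_iff.1 ((fitt_eq_top hM hft W'.2 (le_trans hW' hO)).ge.trans (FittX.ideal_mono hk))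
  obtain ⟨a, ha, hfree, -⟩ := (FittX.locallyFree_iff p).2 ⟨hbot ⟨W, hW⟩ hle, htop ⟨W, hW⟩ hle⟩
    (hW.primeIdealOf ⟨x, hxW⟩).asIdeal
  obtain ⟨n, ⟨e⟩⟩ := QCoh.exists_free_nhd hM hW a hfree
  let D : X.affineOpens := X.affineBasicOpen (U := ⟨W, hW⟩) a
  have hxD : x ∈ D.1 := (QCoh.mem_basicOpen_iff_notMem hW hxW a).2 ha
  have hDO : D.1 ≤ O := le_trans (X.basicOpen_le a) hle
  obtain rfl : n = p := by
    haveI := QCoh.finite_of_isFT hM hft D.2
    haveI : Nontrivial Γ(X, D.1) := (X.presheaf.germ D.1 x hxD).hom.domain_nontrivial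
    obtain ⟨l⟩ := QCoh.free_sections D.2 (le_refl D.1) e
    let b : Module.Basis (Fin n) Γ(X, D.1) Γ(M, D.1) := (Module.Basis.ofRepr l).reindex Equiv.ulift
    rcases lt_trichotomy n p with hlt | heq | hgt
    · exact absurd ((FittX.ideal_eq_top_of_gen b b.span_eq le_rfl).symm.trans (hbot D hDO n hlt)) top_ne_bot
    · exact heq
    · exact absurd ((htop D hDO p le_rfl).symm.trans (FittX.ideal_eq_bot_of_free _ p n b hgt)) top_ne_bot
  exact ⟨D.1, hxD, ⟨e⟩⟩

variable (q : X ⟶ T)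

theorem exists_generic_of_open [GeometricallyIrreducible q] {O : X.Opens} (t : T) (h : ∃ x ∈ O, q x = t) :
    ∃ x, q x = t ∧ x ∈ O ∧ FlatFun.IsGenericPtOfFibre q x := by
  obtain ⟨x, hxO, hx⟩ := h
  let η := q.fiberι t (genericPoint (q.fiber t))
  have hη : q η = t := (q.range_fiberι t).le ⟨_, rfl⟩
  have hgen : ∀ x', q x' = t → η ⤳ x' := fun x' hx' => by
    obtain ⟨v, rfl⟩ : x' ∈ Set.range (q.fiberι t) := by rw [Scheme.Hom.range_fiberι]; exact hx'
    exact (genericPoint_specializes v).map (q.fiberι t).continuous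
  exact ⟨η, hη, (hgen x hx).mem_open O.2 hxO, fun x' hx' => hgen x' (hx'.trans hη)⟩

theorem injective_res_of_isReduced {Z : Scheme.{u}} [IsReduced Z] (U : Z.Opens) (hU : Dense (U : Set Z)) :
    CInt.IsSchematicallyDense U := fun V a b hab => by
  rw [← sub_eq_zero, ← basicOpen_eq_bot_iff, ← Opens.coe_eq_empty]
  by_contra hne
  obtain ⟨z, hzD, hzU⟩ := hU.inter_open_nonempty _ (Z.basicOpen (a - b)).2 (Set.nonempty_iff_ne_empty.2 hne)
  have hz : z ∈ V ⊓ U := ⟨Z.basicOpen_le _ hzD, hzU⟩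
  have h0 : Z.presheaf.map (homOfLE (inf_le_left : V ⊓ U ≤ V)).op (a - b) = 0 := by
    rw [map_sub, hab, sub_self]
  have := (Z.mem_basicOpen _ z (Z.basicOpen_le _ hzD)).1 hzD
  rw [← Z.presheaf.germ_res_apply (homOfLE (inf_le_left : V ⊓ U ≤ V)) z hz, h0, map_zero] at this
  exact not_isUnit_zero this

/-- For a smooth morphism with irreducible fibres an open meeting all fibres is schematically dense. -/
theorem schematicallyDense_of_meets [Smooth q] [GeometricallyIrreducible q] (U : X.Opens)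
    (hU : ∀ t : T, ∃ x ∈ U, q x = t) : CInt.IsSchematicallyDense U := by
  have hfib : ∀ t, CInt.IsSchematicallyDense ((q.fiberι t) ⁻¹ᵁ U) := fun t => by
    haveI : Smooth (q.fiberToSpecResidueField t) := MorphismProperty.pullback_snd _ _ inferInstance
    haveI : IsReduced (q.fiber t) :=
      GrpSchLib.isReduced_of_smooth_field (K := T.residueField t) (q.fiberToSpecResidueField t)
    obtain ⟨x, hxU, hx⟩ := hU t
    obtain ⟨v, rfl⟩ : x ∈ Set.range (q.fiberι t) := by rw [Scheme.Hom.range_fiberι]; exact hx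
    exact injective_res_of_isReduced _ (((q.fiberι t) ⁻¹ᵁ U).2.dense ⟨v, hxU⟩)
  have h := (S4871.result q U).2 hfib T (𝟙 T)
  intro V a b hab
  let π : pullback q (𝟙 T) ⟶ X := pullback.fst q (𝟙 T)
  have hπ : Function.Injective (π.app V) := (ConcreteCategory.bijective_of_isIso (π.app V)).1
  refine hπ (h (π ⁻¹ᵁ V) ?_)
  have h1 : ∀ c : Γ(X, V), (pullback q (𝟙 T)).presheaf.map
      (homOfLE (inf_le_left : π ⁻¹ᵁ V ⊓ π ⁻¹ᵁ U ≤ π ⁻¹ᵁ V)).op (π.app V c) =
      π.app (V ⊓ U) (X.presheaf.map (homOfLE (inf_le_left : V ⊓ U ≤ V)).op c) := fun c =>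
    (congr($(π.naturality (homOfLE (inf_le_left : V ⊓ U ≤ V)).op) c)).symm
  exact (h1 a).trans ((congrArg _ hab).trans (h1 b).symm)

/-- Freeness at the generic points in terms of the Fitting ideals. -/
theorem freeAtGenericPts_iff [Smooth q] [GeometricallyIrreducible q] (hM : Coh.IsQCoh M) (hft : CohB1.IsFT M) :
    FlatFun.FreeAtGenericPts q M p ↔
      (∀ t, ∃ x ∈ locus M p, q x = t) ∧ ∀ k < p, Vanish (Fitt.sheafIdeal M k) (locus M p) := by
  constructor
  · intro h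
    refine ⟨fun t => ?_, fun k hk => vanish_of_affine fun W hW => ?_⟩
    · obtain ⟨x, hx, -, hfree⟩ := h t
      exact ⟨x, (of_isFreeOfRankNear hM hft hfree).1, hx⟩
    let U : X.Opens := ⨆ W : {W : X.affineOpens // (Fitt.sheafIdeal M k).ideal W = ⊥}, W.1.1
    have hdense : CInt.IsSchematicallyDense U := schematicallyDense_of_meets q U fun t => by
      obtain ⟨x, hx, -, hfree⟩ := h t
      obtain ⟨W', hxW', hW'⟩ := (of_isFreeOfRankNear hM hft hfree).2 k hk
      exact ⟨x, Opens.mem_iSup.2 ⟨⟨W', hW'⟩, hxW'⟩, hx⟩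
    refine eq_bot_iff.2 fun a ha => ?_
    show a = 0
    refine hdense W.1 (?_ : X.presheaf.map _ a = X.presheaf.map _ 0)
    rw [map_zero]
    refine TopCat.Presheaf.section_ext X.sheaf _ _ 0 fun x hx => ?_
    obtain ⟨⟨W', hW'⟩, hxW'⟩ := Opens.mem_iSup.1 hx.2
    refine Eq.trans ?_ (map_zero _).symm
    exact (X.presheaf.germ_res_apply _ x hx a).trans (germ_eq_zero _ a ha hx.1 hxW' hW')
  · rintro ⟨h1, h2⟩ t
    obtain ⟨x, hx, hxO, hgen⟩ := exists_generic_of_open q t (h1 t)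
    exact ⟨x, hx, hgen, isFreeOfRankNear_of hM hft le_rfl h2 hxO⟩

section BaseChange

variable {X' : Scheme.{u}} (a : X' ⟶ X)

theorem locus_pullback (hM : Coh.IsQCoh M) (hft : CohB1.IsFT M) :
    locus ((Scheme.Modules.pullback a).obj M) p = a ⁻¹ᵁ locus M p := by
  ext x
  show x ∉ (Fitt.sheafIdeal _ p).support ↔ a x ∉ (Fitt.sheafIdeal M p).support
  rw [← FittX.sheafIdeal_comap a hM hft, Scheme.IdealSheafData.support_comap]
  rfl

theorem Vanish.pullback (hM : Coh.IsQCoh M) (hft : CohB1.IsFT M) {k : ℕ} {O : X.Opens}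
    (h : Vanish (Fitt.sheafIdeal M k) O) :
    Vanish (Fitt.sheafIdeal ((Scheme.Modules.pullback a).obj M) k) (a ⁻¹ᵁ O) := fun x hx => by
  obtain ⟨W, hxW, hW⟩ := h (a x) hx
  obtain ⟨_, ⟨W', hW', rfl⟩, hxW', hle⟩ :=
    X'.isBasis_affineOpens.exists_subset_of_mem_open (show x ∈ a ⁻¹ᵁ W.1 from hxW) (a ⁻¹ᵁ W.1).2
  exact ⟨⟨W', hW'⟩, hxW', by
    rw [← FittX.sheafIdeal_comap a hM hft, ModPairLib.ideal_comap _ a W ⟨W', hW'⟩ hle, hW, Ideal.map_bot]⟩

theorem germ_eq_zero_of_flat [Flat a] (hM : Coh.IsQCoh M) (hft : CohB1.IsFT M) {k : ℕ} {O : X.Opens}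
    (h : Vanish (Fitt.sheafIdeal ((Scheme.Modules.pullback a).obj M) k) (a ⁻¹ᵁ O)) {W : X.affineOpens} (hW : W.1 ≤ O)
    (c : Γ(X, W.1)) (hc : c ∈ (Fitt.sheafIdeal M k).ideal W) (x' : X') (hx : a x' ∈ W.1) :
    X.presheaf.germ W.1 (a x') hx c = 0 := by
  obtain ⟨_, ⟨W', hW', rfl⟩, hxW', hle⟩ :=
    X'.isBasis_affineOpens.exists_subset_of_mem_open (show x' ∈ a ⁻¹ᵁ W.1 from hx) (a ⁻¹ᵁ W.1).2
  have h0 : a.appLE W.1 W' hle c = 0 := by
    rw [← Ideal.mem_bot, ← h.ideal_eq_bot (W := ⟨W', hW'⟩) (fun y hy => hW (hle hy)),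
      ← FittX.sheafIdeal_comap a hM hft, ModPairLib.ideal_comap _ a W ⟨W', hW'⟩ hle]
    exact Ideal.mem_map_of_mem _ hc
  have hinj : Function.Injective (a.stalkMap x') := by
    algebraize [(a.stalkMap x').hom]
    haveI : Module.Flat (X.presheaf.stalk (a x')) (X'.presheaf.stalk x') := Flat.stalkMap a x'
    haveI : IsLocalHom (algebraMap (X.presheaf.stalk (a x')) (X'.presheaf.stalk x')) :=
      inferInstanceAs (IsLocalHom (a.stalkMap x').hom)
    haveI : Module.FaithfullyFlat (X.presheaf.stalk (a x')) (X'.presheaf.stalk x') :=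
      Module.FaithfullyFlat.of_flat_of_isLocalHom
    exact FaithfulSMul.algebraMap_injective _ _
  refine hinj ?_
  rw [map_zero, Scheme.Hom.germ_stalkMap_apply,
    ← X'.presheaf.germ_res_apply (homOfLE hle) x' hxW']
  exact (congrArg _ h0).trans (map_zero _)

end BaseChange

end Groth.Agent.FreeGen
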