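import Groth.Agent.FreeGen.Functor
import Groth.Agent.FlatModel.FibreScheme
import Groth.Agent.RelFlat.Bridge
import Groth.Agent.RelFlat.Main
import Groth.Agent.FibDim.RelDim
import Groth.Agent.S2768
import Groth.Agent.S9350
import Groth.Agent.GrpSchLib.SmoothReduced

/-! Flatness in the top dimension against freeness at the generic points of the fibres. -/

set_option autoImplicit false
set_option backward.isDefEq.respectTransparency false
set_option backward.isDefEq.respectTransparency.types false
set_option linter.style.haveILetI false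

universe u

open CategoryTheory CategoryTheory.Limits AlgebraicGeometry TopologicalSpace Opposite

namespace Groth.Agent.FreeGen

variable {X T : Scheme.{u}}

theorem fibre_point (q : X ⟶ T) (x : X) : ∃ w : ↥(q.fiber (q x)), q.fiberι (q x) w = x :=
  ⟨q.asFiber x, Scheme.Hom.fiberι_asFiber q x⟩

theorem isField_quot_of_generic (q : X ⟶ T) [Smooth q] [GeometricallyIrreducible q] {x : X}
    (hx : FlatFun.IsGenericPtOfFibre q x) :
    IsField (X.presheaf.stalk x ⧸ (IsLocalRing.maximalIdeal (T.presheaf.stalk (q x))).map (q.stalkMap x).hom) := by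
  obtain ⟨w, hw⟩ := fibre_point q x
  let Z := q.fiber (q x)
  haveI : Smooth (q.fiberToSpecResidueField (q x)) := MorphismProperty.pullback_snd _ _ inferInstance
  haveI : IsReduced Z := GrpSchLib.isReduced_of_smooth_field (K := T.residueField (q x)) (q.fiberToSpecResidueField (q x))
  haveI : IsIntegral Z := isIntegral_of_irreducibleSpace_of_isReduced Z
  have hgen : w = genericPoint Z := by
    refine (Specializes.antisymm ((q.fiberι (q x)).isEmbedding.isInducing.specializes_iff.1 ?_) (genericPoint_specializes w)).eq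
    rw [hw]
    exact hx _ ((q.range_fiberι (q x)).le ⟨_, rfl⟩)
  have hfield : IsField (Z.presheaf.stalk w) := by
    subst hgen
    exact Field.toIsField Z.functionField
  have hs := (q.fiberι (q x)).stalkMap_surjective w
  have hk := FlatDvr.ker_stalkMap_fiberι q w
  have h := ((Ideal.quotEquivOfEq hk.symm).trans (RingHom.quotientKerEquivOfSurjective hs)).toMulEquiv.isField hfield
  have aux : ∀ y : X, y = x →
      IsField (X.presheaf.stalk y ⧸ (IsLocalRing.maximalIdeal (T.presheaf.stalk (q y))).map (q.stalkMap y).hom) →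
      IsField (X.presheaf.stalk x ⧸ (IsLocalRing.maximalIdeal (T.presheaf.stalk (q x))).map (q.stalkMap x).hom) := by
    intro y hy h'
    subst hy
    exact h'
  exact aux _ hw h

theorem flat_of_isField {R : Type*} [CommRing R] (hR : IsField R) {N : Type*} {_ : AddCommGroup N} {_ : Module R N} :
    Module.Flat R N := by
  letI := hR.toField
  exact Module.Flat.of_free

theorem free_near_of_flat (q : X ⟶ T) [LocallyOfFinitePresentation q] {M : X.Modules} (hfp : CohB1.IsFP M) {x : X}
    (hK : IsField (X.presheaf.stalk x ⧸ (IsLocalRing.maximalIdeal (T.presheaf.stalk (q x))).map (q.stalkMap x).hom))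
    (hfl : FlatMod.IsFlatOverAt q M x) :
    ∃ (U : X.Opens) (n : ℕ), x ∈ U ∧ Nonempty (M.restrict U.ι ≅ FlatMod.freeMod (U : Scheme.{u}) n) := by
  have hM := QCoh.isQCoh_of_isFP hfp
  suffices Module.Free (X.presheaf.stalk x) (M.presheaf.stalk x) from QCoh.exists_free_nhd_of_free_stalk hfp x
  rcases subsingleton_or_nontrivial (M.presheaf.stalk x) with hs | hs
  · infer_instance
  · haveI : LocallyOfFinitePresentation (𝟙 X ≫ q) := by rw [Category.id_comp]; infer_instance
    have h1 : FlatMod.IsFlatOverAt (𝟙 X ≫ q) M x := by rw [Category.id_comp]; exact hfl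
    have h : FlatMod.IsFlatOverAt (𝟙 X) M x := ((FlatModel.fibre_criterion (𝟙 X) q M hM hfp x hs).1 ⟨h1, by
      exact flat_of_isField hK⟩).2
    haveI := FlatModel.finitePresentation_stalk hM hfp x
    haveI : Module.Flat (X.presheaf.stalk x) (M.presheaf.stalk x) :=
      (@RelFlat.flat_iff_of_ringEquiv (X.presheaf.stalk x) (X.presheaf.stalk x) (M.presheaf.stalk x) (M.presheaf.stalk x)
        _ _ _ (FlatMod.moduleStalkOver (𝟙 X) M x) _ _ (RingEquiv.refl _) (AddEquiv.refl _) fun r n => by
          show ((𝟙 X : X ⟶ X).stalkMap x).hom r • n = r • n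
          rw [Scheme.Hom.stalkMap_id]
          rfl).1 h
    exact Module.free_of_flat_of_isLocalRing

theorem flatAt_of_free_near (q : X ⟶ T) [Flat q] {M : X.Modules} (hM : Coh.IsQCoh M) (hft : CohB1.IsFT M)
    {p : ℕ} {x : X} (h : FlatFun.IsFreeOfRankNear M p x) : FlatMod.IsFlatOverAt q M x := by
  obtain ⟨U, hxU, ⟨e⟩⟩ := h
  obtain ⟨_, ⟨W, hW : IsAffineOpen W, rfl⟩, hxW, hle⟩ :=
    X.isBasis_affineOpens.exists_subset_of_mem_open (show x ∈ U from hxU) U.2
  obtain ⟨l⟩ := QCoh.free_sections hW hle e
  let b : Module.Basis (Fin p) Γ(X, W) Γ(M, W) := (Module.Basis.ofRepr l).reindex Equiv.ulift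
  letI := QCoh.stalkAlg (X := X) hxW
  letI := QCoh.stalkModule M hxW
  haveI := QCoh.isScalarTower_stalk M hxW
  haveI := QCoh.isLocalization_stalk' hW hxW
  haveI := QCoh.isLocalizedModule_germLin hM hW hxW
  haveI := Module.Free.of_basis b
  haveI : Module.Free (X.presheaf.stalk x) (M.presheaf.stalk x) :=
    Module.free_of_isLocalizedModule (hW.primeIdealOf ⟨x, hxW⟩).asIdeal.primeCompl (QCoh.germLin M hxW)
  letI := FlatMod.moduleStalkOver q M x
  letI : Algebra (T.presheaf.stalk (q x)) (X.presheaf.stalk x) := (q.stalkMap x).hom.toAlgebra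
  haveI : IsScalarTower (T.presheaf.stalk (q x)) (X.presheaf.stalk x) (M.presheaf.stalk x) :=
    IsScalarTower.of_algebraMap_smul fun _ _ => rfl
  haveI : Module.Flat (T.presheaf.stalk (q x)) (X.presheaf.stalk x) := Flat.stalkMap q x
  exact Module.Flat.trans (T.presheaf.stalk (q x)) (X.presheaf.stalk x) (M.presheaf.stalk x)

theorem rd_lt_iff_not_generic (q : X ⟶ T) (d : ℕ) [SmoothOfRelativeDimension d q] [GeometricallyIrreducible q]
    (x : X) : FibDim.rd q x < d ↔ ¬ FlatFun.IsGenericPtOfFibre q x := by
  haveI : Smooth q := SmoothOfRelativeDimension.smooth d q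
  constructor
  · intro h hgen
    have hmax : FibDim.FibMax q x := fun z hz hqz => (Specializes.antisymm hz (hgen z hqz)).eq
    have h1 := S2768.result d q x
    rw [FibDim.fibreDimAt_eq_rd q hmax] at h1
    have h2 : FibDim.rd q x = d := by exact_mod_cast h1
    omega
  · intro h
    obtain ⟨η, hη, -, hgen⟩ := exists_generic_of_open q (O := ⊤) (q x) ⟨x, trivial, rfl⟩
    have hne : η ≠ x := fun he => h (he ▸ hgen)
    refine lt_of_lt_of_le (FibDim.rd_lt q (hgen x hη.symm) hne hη) ?_
    have hmax : FibDim.FibMax q η := fun z hz hqz => (Specializes.antisymm hz (hgen z (hqz.trans rfl))).eq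
    have h1 := S2768.result d q η
    rw [FibDim.fibreDimAt_eq_rd q hmax] at h1
    have h2 : FibDim.rd q η = d := by exact_mod_cast h1
    omega

end Groth.Agent.FreeGen
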