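import Groth.Agent.FreeGen.Basic
import Groth.Prelude.Def_FGA

/-! Freeness at the generic points of the fibres as a condition on schemes over the base. -/

set_option autoImplicit false
set_option backward.isDefEq.respectTransparency false
set_option backward.isDefEq.respectTransparency.types false
set_option linter.style.haveILetI false

universe u

open CategoryTheory CategoryTheory.Limits AlgebraicGeometry TopologicalSpace Opposite

namespace Groth.Agent.FreeGen

variable {X S : Scheme.{u}} (f : X ⟶ S) {F : X.Modules} (hM : Coh.IsQCoh F) (hft : CohB1.IsFT F) (p : ℕ)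

theorem isPullback_XTmap {T T₀ : Over S} (g : T ⟶ T₀) :
    IsPullback (PicF.XTmap f g) (PicF.XTproj f T) (PicF.XTproj f T₀) g.left := by
  refine IsPullback.of_right ?_ (pullback.lift_snd _ _ _) (IsPullback.of_hasPullback f T₀.hom)
  rw [PicF.XTmap, pullback.map, pullback.lift_fst, Category.comp_id, Over.w]
  exact IsPullback.of_hasPullback f T.hom

include hM hft in
theorem sheafIdeal_ET {T T₀ : Over S} (g : T ⟶ T₀) (k : ℕ) :
    Fitt.sheafIdeal ((Scheme.Modules.pullback (PicF.XTmap f g)).obj (FGA.ET f F T₀)) k =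
      Fitt.sheafIdeal (FGA.ET f F T) k := by
  rw [← FittX.sheafIdeal_comap _ (QCoh.isQCoh_pullback _ hM) (FittX.isFT_pullback _ hM hft),
    ← FittX.sheafIdeal_comap _ hM hft, ← Scheme.IdealSheafData.comap_comp, FGA.XTmap_fst,
    FittX.sheafIdeal_comap _ hM hft]

include hM hft in
theorem locus_ET {T T₀ : Over S} (g : T ⟶ T₀) :
    locus (FGA.ET f F T) p = PicF.XTmap f g ⁻¹ᵁ locus (FGA.ET f F T₀) p := by
  rw [← locus_pullback (PicF.XTmap f g) (QCoh.isQCoh_pullback _ hM) (FittX.isFT_pullback _ hM hft)]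
  unfold locus
  rw [sheafIdeal_ET f hM hft g]

/-- The condition defining `H_p`. -/
abbrev Cond (F : X.Modules) (T : Over S) : Prop :=
  FlatFun.FreeAtGenericPts (PicF.XTproj f T) (FGA.ET f F T) p

variable [Smooth f] [GeometricallyIrreducible f]

include hM hft in
theorem cond_iff (T : Over S) :
    Cond f p F T ↔
      (∀ t : T.left, ∃ x ∈ locus (FGA.ET f F T) p, PicF.XTproj f T x = t) ∧
        ∀ k < p, Vanish (Fitt.sheafIdeal (FGA.ET f F T) k) (locus (FGA.ET f F T) p) :=
  haveI : Smooth (PicF.XTproj f T) := MorphismProperty.pullback_snd _ _ inferInstance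
  haveI : GeometricallyIrreducible (PicF.XTproj f T) := MorphismProperty.pullback_snd _ _ inferInstance
  freeAtGenericPts_iff _ (QCoh.isQCoh_pullback _ hM) (FittX.isFT_pullback _ hM hft)

include hM hft in
theorem cond_stable ⦃T T₀ : Over S⦄ (g : T ⟶ T₀) (h : Cond f p F T₀) : Cond f p F T := by
  rw [cond_iff f hM hft] at h ⊢
  refine ⟨fun t => ?_, fun k hk => ?_⟩
  · obtain ⟨x₀, hx₀, hq⟩ := h.1 (g.left t)
    obtain ⟨w, hw, hwt⟩ := Scheme.exists_preimage_of_isPullback (isPullback_XTmap f g) x₀ t hq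
    refine ⟨w, ?_, hwt⟩
    rw [locus_ET f hM hft p g]
    show PicF.XTmap f g w ∈ locus (FGA.ET f F T₀) p
    rwa [hw]
  · rw [← sheafIdeal_ET f hM hft g, locus_ET f hM hft p g]
    exact (h.2 k hk).pullback _ (QCoh.isQCoh_pullback _ hM) (FittX.isFT_pullback _ hM hft)

include hM hft in
theorem cond_descends {T : Over S} {ι : Type u} (Ti : ι → Over S) (g : ∀ i, Ti i ⟶ T)
    (hfl : ∀ i, Flat (g i).left) (hsurj : ∀ x : T.left, ∃ i, x ∈ Set.range (g i).left.base)
    (hP : ∀ i, Cond f p F (Ti i)) : Cond f p F T := by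
  simp only [cond_iff f hM hft] at hP ⊢
  refine ⟨fun t => ?_, fun k hk => vanish_of_affine fun W hW => eq_bot_iff.2 fun c hc => ?_⟩
  · obtain ⟨i, z, hz⟩ := hsurj t
    obtain ⟨w, hw, hwz⟩ := (hP i).1 z
    refine ⟨PicF.XTmap f (g i) w, ?_, ?_⟩
    · rw [locus_ET f hM hft p (g i)] at hw
      exact hw
    · rw [← Scheme.Hom.comp_apply, (isPullback_XTmap f (g i)).w, Scheme.Hom.comp_apply, hwz]
      exact hz
  show c = 0
  refine TopCat.Presheaf.section_ext (PicF.XT f T).sheaf W.1 c 0 fun x hx => ?_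
  obtain ⟨i, z, hz⟩ := hsurj (PicF.XTproj f T x)
  obtain ⟨w, hw, -⟩ := Scheme.exists_preimage_of_isPullback (isPullback_XTmap f (g i)) x z hz.symm
  haveI := hfl i
  haveI : Flat (PicF.XTmap f (g i)) := MorphismProperty.of_isPullback (isPullback_XTmap f (g i)).flip (hfl i)
  have hv := (hP i).2 k hk
  rw [← sheafIdeal_ET f hM hft (g i), locus_ET f hM hft p (g i)] at hv
  subst hw
  exact (germ_eq_zero_of_flat (PicF.XTmap f (g i)) (QCoh.isQCoh_pullback _ hM) (FittX.isFT_pullback _ hM hft)
    hv hW c hc w hx).trans (map_zero _).symm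

end Groth.Agent.FreeGen
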