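import Groth.Agent.FreeGen.Functor
import Groth.Agent.LimModLib.FP
import Groth.Agent.MorLib.BaseChangeLim

/-! Freeness at the generic points of the fibres descends along affine limits. -/

set_option autoImplicit false
set_option backward.isDefEq.respectTransparency false
set_option backward.isDefEq.respectTransparency.types false
set_option linter.style.haveILetI false

universe u

open CategoryTheory CategoryTheory.Limits AlgebraicGeometry TopologicalSpace Opposite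

namespace Groth.Agent.FreeGen

theorem app_eq_zero_of_vanish {X Y : Scheme.{u}} (a : X ⟶ Y) (I : Y.IdealSheafData) (W : Y.affineOpens)
    (c : Γ(Y, W.1)) (hc : c ∈ I.ideal W) (h : Vanish (I.comap a) (a ⁻¹ᵁ W.1)) : a.app W.1 c = 0 := by
  refine TopCat.Presheaf.section_ext X.sheaf _ _ 0 fun x hx => ?_
  obtain ⟨_, ⟨W', hW', rfl⟩, hxW', hle⟩ :=
    X.isBasis_affineOpens.exists_subset_of_mem_open (show x ∈ a ⁻¹ᵁ W.1 from hx) (a ⁻¹ᵁ W.1).2
  have h0 : X.presheaf.map (homOfLE hle).op (a.app W.1 c) = 0 := by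
    show a.appLE W.1 W' hle c = 0
    rw [← Ideal.mem_bot, ← h.ideal_eq_bot (W := ⟨W', hW'⟩) hle, ModPairLib.ideal_comap _ a W ⟨W', hW'⟩ hle]
    exact Ideal.mem_map_of_mem _ hc
  refine Eq.trans ?_ (map_zero _).symm
  exact (X.presheaf.germ_res_apply (homOfLE hle) x hxW' _).symm.trans
    ((congrArg (X.presheaf.germ W' x hxW') h0).trans (map_zero _))

theorem vanish_comap_of_app_eq_zero {X Y : Scheme.{u}} (a : X ⟶ Y) (I : Y.IdealSheafData) (W : Y.affineOpens)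
    (s : Set Γ(Y, W.1)) (hs : Ideal.span s = I.ideal W) (h : ∀ c ∈ s, a.app W.1 c = 0) :
    Vanish (I.comap a) (a ⁻¹ᵁ W.1) := fun x hx => by
  obtain ⟨_, ⟨W', hW', rfl⟩, hxW', hle⟩ :=
    X.isBasis_affineOpens.exists_subset_of_mem_open (show x ∈ a ⁻¹ᵁ W.1 from hx) (a ⁻¹ᵁ W.1).2
  refine ⟨⟨W', hW'⟩, hxW', eq_bot_iff.2 ?_⟩
  rw [ModPairLib.ideal_comap _ a W ⟨W', hW'⟩ hle, ← hs, Ideal.map_span, Ideal.span_le]
  rintro _ ⟨c, hc, rfl⟩
  show X.presheaf.map (homOfLE hle).op (a.app W.1 c) = 0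
  rw [h c hc, map_zero]

variable {X S : Scheme.{u}} (f : X ⟶ S) [Smooth f] [GeometricallyIrreducible f] {F : X.Modules}
  (hM : Coh.IsQCoh F) (hfp : CohB1.IsFP F) (p : ℕ)

include hM hfp in
theorem cond_limit {I : Type u} [SmallCategory I] [IsCofiltered I] (D : I ⥤ Over S) (c : Cone D)
    (hc : IsLimit ((Over.forget S).mapCone c)) [∀ i, IsAffine (D.obj i).left] [IsAffine c.pt.left]
    (h : Cond f p F c.pt) : ∃ i, Cond f p F (D.obj i) := by
  have hft := QCoh.isFT_of_isFP hfp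
  obtain ⟨i₀⟩ := IsCofiltered.nonempty (C := I)
  let D' : I ⥤ Scheme.{u} := D ⋙ Over.forget S
  let c' : Cone D' := (Over.forget S).mapCone c
  haveI : ∀ i, IsAffine (D'.obj i) := fun i => inferInstanceAs (IsAffine (D.obj i).left)
  haveI : IsAffine c'.pt := inferInstanceAs (IsAffine c.pt.left)
  haveI : ∀ {i j : I} (g : i ⟶ j), IsAffineHom (D'.map g) := fun g => inferInstance
  let Y := PicF.XT f (D.obj i₀)
  let q₀ : Y ⟶ D'.obj i₀ := PicF.XTproj f (D.obj i₀)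
  haveI hsm : Smooth q₀ := MorphismProperty.pullback_snd f (D.obj i₀).hom inferInstance
  have hopen : IsOpenMap q₀.base := q₀.isOpenMap
  let g₀ : c.pt ⟶ D.obj i₀ := c.π.app i₀
  let b := PicF.XTmap f g₀
  have hb := isPullback_XTmap f g₀
  let M := FGA.ET f F (D.obj i₀)
  have hMq : Coh.IsQCoh M := QCoh.isQCoh_pullback _ hM
  have hMfp : CohB1.IsFP M := LimModLib.isFP_pullback _ hM hfp
  have hMft : CohB1.IsFT M := QCoh.isFT_of_isFP hMfp
  rw [cond_iff f hM hft] at h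
  -- finitely many affine opens of the locus cover the limit
  let ι := {W : Y.affineOpens // W.1 ≤ locus M p}
  let V : ι → (D'.obj i₀).Opens := fun W => ⟨q₀.base '' W.1.1, hopen _ W.1.1.2⟩
  obtain ⟨s, hs⟩ : ∃ s : Finset ι, (Set.univ : Set c'.pt) ⊆ ⋃ W ∈ s, (((c'.π.app i₀) ⁻¹ᵁ V W : c'.pt.Opens) : Set c'.pt) := by
    refine isCompact_univ.elim_finite_subcover _ (fun W => ((c'.π.app i₀) ⁻¹ᵁ V W).2) fun t _ => ?_
    obtain ⟨x, hx, hxt⟩ := h.1 t
    rw [locus_ET f hM hft p g₀] at hx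
    obtain ⟨_, ⟨W, hW, rfl⟩, hxW, hle⟩ :=
      Y.isBasis_affineOpens.exists_subset_of_mem_open (show b x ∈ locus M p from hx) (locus M p).2
    refine Set.mem_iUnion.2 ⟨⟨⟨W, hW⟩, hle⟩, b x, hxW, ?_⟩
    subst hxt
    exact congr($(hb.w) x)
  let U : (D'.obj i₀).Opens := ⨆ W : s, V W.1
  have hU : c'.π.app i₀ ⁻¹ᵁ U = ⊤ := top_le_iff.1 fun t _ => by
    obtain ⟨W, hW, ht⟩ := Set.mem_iUnion₂.1 (hs (Set.mem_univ t))
    exact Opens.mem_iSup.2 ⟨⟨W, hW⟩, ht⟩
  haveI : ∀ i, CompactSpace (D'.obj i) := fun i => inferInstance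
  obtain ⟨j₁, φ₁, hj₁⟩ := exists_map_eq_top D' c' hc U hU
  -- the generators of the lower Fitting ideals vanish eventually
  have hgen : ∀ (W : ι) (k : ℕ), ∃ g : Finset Γ(Y, W.1.1), Ideal.span (g : Set Γ(Y, W.1.1)) =
      (Fitt.sheafIdeal M k).ideal W.1 := fun W k => FittX.isFiniteTypeIdeal hMfp k W.1
  choose gen hgen using hgen
  let G := Σ W : s, Σ k : Fin p, gen W.1 k
  let Good : G → Over i₀ → Prop := fun g j =>
    (pullback.fst q₀ (D'.map j.hom)).app g.1.1.1.1 g.2.2.1 = 0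
  have mono : ∀ g ⦃j k : Over i₀⦄ (_ : k ⟶ j), Good g j → Good g k := fun g j k e hj => by
    show (pullback.fst q₀ (D'.map k.hom)).app _ _ = 0
    rw [← MorLib.BC.map_fst D' q₀ e, Scheme.Hom.comp_app, CommRingCat.comp_apply]
    exact (congrArg _ hj).trans (map_zero _)
  have hX : IsPullback b (PicF.XTproj f c.pt) q₀ (c'.π.app i₀) := hb
  have hex : ∀ g : G, ∃ j, Good g j := fun g => by
    obtain ⟨⟨⟨W, hW⟩, hWs⟩, k, a, ha⟩ := g
    let o : Over i₀ := Over.mk (𝟙 i₀)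
    let p₀ : (MorLib.BC.diag D' q₀).obj o ⟶ Y := pullback.fst q₀ (D'.map (𝟙 i₀))
    haveI : IsIso p₀ := by
      haveI : IsIso (D'.map (𝟙 i₀)) := by rw [D'.map_id]; infer_instance
      infer_instance
    have h0 : b.app W.1 a = 0 := by
      refine app_eq_zero_of_vanish b _ W a (hgen ⟨W, hW⟩ k ▸ Ideal.subset_span ha) ?_
      rw [FittX.sheafIdeal_comap b hMq hMft, sheafIdeal_ET f hM hft]
      intro x hx
      refine h.2 k k.2 x ?_
      rw [locus_ET f hM hft p g₀]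
      exact hW hx
    have h1 : ((MorLib.BC.cone (c := c') D' q₀ hX).π.app o).app (p₀ ⁻¹ᵁ W.1) (p₀.app W.1 a) = 0 := by
      have e : MorLib.BC.proj (c := c') D' q₀ hX o ≫ p₀ = b := MorLib.BC.proj_fst (c := c') D' q₀ hX o
      have h2 : ∀ (b' : PicF.XT f c.pt ⟶ Y), b' = b → b'.app W.1 a = 0 := fun b' hb' => by subst hb'; exact h0
      have h3 := h2 _ e
      rw [Scheme.Hom.comp_app] at h3
      exact h3
    have hcpt : IsCompact (p₀ ⁻¹ᵁ W.1 : Set ((MorLib.BC.diag D' q₀).obj o)) := (W.2.preimage p₀).isCompact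
    obtain ⟨j, e, hj⟩ := exists_app_map_eq_zero_of_isLimit _ _ (MorLib.BC.isLimitCone (c := c') D' q₀ hX hc) hcpt _ h1
    refine ⟨j, ?_⟩
    show (pullback.fst q₀ (D'.map j.hom)).app W.1 a = 0
    have h4 : (MorLib.BC.diag D' q₀).map e ≫ p₀ = pullback.fst q₀ (D'.map j.hom) := MorLib.BC.map_fst D' q₀ e
    rw [← h4, Scheme.Hom.comp_app]
    exact hj
  choose jg hjg using hex
  classical
  obtain ⟨j, hj⟩ := IsCofiltered.inf_objs_exists
    (insert (Over.mk φ₁) (Finset.univ.image jg))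
  obtain ⟨e₁⟩ := hj (Finset.mem_insert_self _ _)
  have hgood : ∀ g, Good g j := fun g =>
    mono g (hj (Finset.mem_insert_of_mem (Finset.mem_image_of_mem _ (Finset.mem_univ g)))).some (hjg g)
  refine ⟨j.left, ?_⟩
  let φ : D.obj j.left ⟶ D.obj i₀ := D.map j.hom
  let β := PicF.XTmap f φ
  have hβ := isPullback_XTmap f φ
  have happ : ∀ g : G, β.app g.1.1.1.1 g.2.2.1 = 0 := fun g => by
    have e : pullback.lift β (PicF.XTproj f (D.obj j.left)) hβ.w ≫ pullback.fst q₀ (D'.map j.hom) = β :=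
      pullback.lift_fst _ _ _
    rw [← e, Scheme.Hom.comp_app, CommRingCat.comp_apply]
    exact (congrArg _ (hgood g)).trans (map_zero _)
  let O : (PicF.XT f (D.obj j.left)).Opens := ⨆ W : s, β ⁻¹ᵁ W.1.1.1
  have hO : O ≤ locus (FGA.ET f F (D.obj j.left)) p := iSup_le fun W => by
    rw [locus_ET f hM hft p φ]
    exact fun x hx => W.1.2 hx
  have hvan : ∀ k < p, Vanish (Fitt.sheafIdeal (FGA.ET f F (D.obj j.left)) k) O := fun k hk x hx => by
    obtain ⟨W, hxW⟩ := Opens.mem_iSup.1 hx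
    rw [← sheafIdeal_ET f hM hft φ, ← FittX.sheafIdeal_comap β hMq hMft]
    exact vanish_comap_of_app_eq_zero β _ W.1.1 _ (hgen W.1 k)
      (fun a ha => happ ⟨W, ⟨k, hk⟩, a, ha⟩) x hxW
  intro t
  haveI : GeometricallyIrreducible (PicF.XTproj f (D.obj j.left)) :=
    MorphismProperty.pullback_snd _ _ inferInstance
  have ht : φ.left t ∈ U := by
    have h5 : D'.map φ₁ ((D'.map e₁.left) t) ∈ U :=
      hj₁.ge (Set.mem_univ ((D'.map e₁.left) t))
    have h6 : D'.map (e₁.left ≫ φ₁) t ∈ U := by rw [D'.map_comp]; exact h5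
    rw [show e₁.left ≫ φ₁ = j.hom from Over.w e₁] at h6
    exact h6
  obtain ⟨W, y, hyW, hy⟩ := Opens.mem_iSup.1 ht
  obtain ⟨w, hw, hwt⟩ := Scheme.exists_preimage_of_isPullback hβ y t hy
  obtain ⟨x, hx, hxO, hgen'⟩ := exists_generic_of_open (PicF.XTproj f (D.obj j.left)) (O := O) t
    ⟨w, Opens.mem_iSup.2 ⟨W, show β w ∈ W.1.1.1 by rwa [hw]⟩, hwt⟩
  exact ⟨x, hx, hgen', isFreeOfRankNear_of (QCoh.isQCoh_pullback _ hM) (FittX.isFT_pullback _ hM hft) hO hvan hxO⟩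

end Groth.Agent.FreeGen
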